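import Cfsg.Agent.H141.Ux.Stmts
import Cfsg.Agent.H845.Bs.Count
import Cfsg.Agent.H50.RG.Stat3
import Cfsg.Agent.H383.RG.Count

/-!
# UX (S5716, unbounded rank), task UM2: first moment of pairs of blocks, linear case (helper994)

* `card_irr` : at most `|GL(X)| / dim X` elements of `GL(X)` are irreducible;
* `Dec A B D` : `V = A ⊕ B ⊕ D`; `SL(V)` is transitive on the decompositions of given dimensions (`Dec.exists_sl`);
* `um2 : UM2`.
-/

set_option autoImplicit false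

namespace Cfsg.Agent.H994.Ux

open Module Cfsg.Agent.H847.Bs Cfsg.Agent.H141.Ux
open Cfsg.Agent.H845.Bs (res coe_res irr_res card_preimage glue_left glue_right det_glue)
open Cfsg.Agent.H845.Bs renaming Inv.conj → inv_conj, Irr.conj → irr_conj, Inv.symm_mem → inv_symm_mem

/-! ### irreducible automorphisms -/

theorem irr_transfer {F X Y : Type*} [Field F] [AddCommGroup X] [Module F X] [AddCommGroup Y] [Module F Y]
    (σ : X ≃ₗ[F] Y) {x : X ≃ₗ[F] X} (h : Irr x ⊤) : Irr (σ.symm.trans (x.trans σ)) ⊤ := by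
  refine ⟨fun _ _ => trivial, ?_, fun Z _ hZ => ?_⟩
  · intro h0
    apply h.ne_bot
    rw [eq_bot_iff]
    intro v _
    have h1 : σ v ∈ (⊤ : Submodule F Y) := trivial
    rw [h0, Submodule.mem_bot] at h1
    rw [Submodule.mem_bot]
    exact σ.injective (by rw [h1, map_zero])
  · have h1 := h.min (Z.comap (σ : X →ₗ[F] Y)) le_top (by
      intro v hv
      have h2 := hZ (σ v) hv
      show σ (x v) ∈ Z
      have h3 : (σ.symm.trans (x.trans σ)) (σ v) = σ (x v) := by simp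
      rwa [h3] at h2)
    rcases h1 with h1 | h1
    · left
      rw [eq_bot_iff]
      intro v hv
      have h2 : σ.symm v ∈ Z.comap (σ : X →ₗ[F] Y) := by
        show σ (σ.symm v) ∈ Z
        rwa [σ.apply_symm_apply]
      rw [h1, Submodule.mem_bot] at h2
      rw [Submodule.mem_bot]
      exact σ.symm.injective (by rw [h2, map_zero])
    · right
      rw [eq_top_iff]
      intro v _
      have h2 : σ.symm v ∈ Z.comap (σ : X →ₗ[F] Y) := by rw [h1]; trivial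
      have h3 : σ (σ.symm v) ∈ Z := h2
      rwa [σ.apply_symm_apply] at h3

theorem card_irr {F X : Type} [Field F] [Finite F] [AddCommGroup X] [Module F X] [Module.Finite F X]
    (h : 1 ≤ finrank F X) :
    finrank F X * Nat.card {x : X ≃ₗ[F] X // Irr x ⊤} ≤ Nat.card (X ≃ₗ[F] X) := by
  let τ : X ≃ₗ[F] (Fin (finrank F X) → F) := (finBasis F X).equivFun
  let c : (X ≃ₗ[F] X) ≃ ((Fin (finrank F X) → F) ≃ₗ[F] (Fin (finrank F X) → F)) :=
    { toFun := fun x => τ.symm.trans (x.trans τ)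
      invFun := fun y => τ.trans (y.trans τ.symm)
      left_inv := fun x => by ext v; simp
      right_inv := fun x => by ext v; simp }
  have h1 : Nat.card {x : X ≃ₗ[F] X // Irr x ⊤} = Nat.card (H50.RG.II F (Fin (finrank F X) → F)) :=
    Nat.card_congr (c.subtypeEquiv fun x => ⟨fun hx => irr_transfer τ hx, fun hx => by
      have h2 := irr_transfer τ.symm hx
      have h3 : c.symm (c x) = x := c.symm_apply_apply x
      rw [← h3]
      exact h2⟩)
  have h2 := H383.RG.rg_L02 F (finrank F X) h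
  rw [H50.RG.card_II, H50.RG.card_GLX] at h2
  rw [h1, Nat.card_congr c]
  exact h2

/-! ### decompositions -/

section

variable {F V : Type*} [Field F] [AddCommGroup V] [Module F V] {A B D A' B' D' : Submodule F V}

/-- `V = A ⊕ B ⊕ D` -/
structure Dec (A B D : Submodule F V) : Prop where
  disj : Disjoint A B
  compl : IsCompl (A ⊔ B) D

theorem Dec.left (h : Dec A B D) : IsCompl A (B ⊔ D) :=
  ⟨h.disj.disjoint_sup_right_of_disjoint_sup_left h.compl.disjoint,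
    codisjoint_iff.2 (by rw [← sup_assoc]; exact h.compl.sup_eq_top)⟩

theorem Dec.right (h : Dec A B D) : IsCompl B (A ⊔ D) := by
  have h' : Dec B A D := ⟨h.disj.symm, by rw [sup_comm]; exact h.compl⟩
  exact h'.left

/-- the projections -/
noncomputable def Dec.join (h : Dec A B D) : (A × B × D) ≃ₗ[F] V :=
  LinearEquiv.ofBijective (A.subtype.coprod (B.subtype.coprod D.subtype)) (by
    constructor
    · rw [← LinearMap.ker_eq_bot, eq_bot_iff]
      rintro ⟨a, b, d⟩ hx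
      rw [LinearMap.mem_ker] at hx
      have h0 : (a : V) + (b + d) = 0 := hx
      have ha : (a : V) = 0 := by
        refine (Submodule.disjoint_def.1 h.left.disjoint) _ a.2 ?_
        rw [eq_neg_of_add_eq_zero_left h0]
        exact neg_mem (Submodule.add_mem_sup b.2 d.2)
      have hb : (b : V) = 0 := by
        rw [ha, zero_add] at h0
        refine (Submodule.disjoint_def.1 h.right.disjoint) _ b.2 ?_
        rw [eq_neg_of_add_eq_zero_left h0]
        exact neg_mem (Submodule.mem_sup_right d.2)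
      have hd : (d : V) = 0 := by rwa [ha, hb, zero_add, zero_add] at h0
      rw [Submodule.mem_bot]
      exact Prod.ext (Subtype.ext ha) (Prod.ext (Subtype.ext hb) (Subtype.ext hd))
    · intro v
      have hv : v ∈ A ⊔ (B ⊔ D) := by rw [h.left.sup_eq_top]; trivial
      obtain ⟨a, ha, w, hw, rfl⟩ := Submodule.mem_sup.1 hv
      obtain ⟨b, hb, d, hd, rfl⟩ := Submodule.mem_sup.1 hw
      exact ⟨(⟨a, ha⟩, ⟨b, hb⟩, ⟨d, hd⟩), rfl⟩)

theorem Dec.join_apply (h : Dec A B D) (a : A) (b : B) (d : D) : h.join (a, b, d) = (a : V) + (b + d) := rfl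

variable [FiniteDimensional F V]

theorem map_eq_of_inv {g : V ≃ₗ[F] V} (h : Inv g A) : A.map (g : V →ₗ[F] V) = A := by
  apply Submodule.eq_of_le_of_finrank_eq
  · rintro _ ⟨v, hv, rfl⟩
    exact h v hv
  · exact LinearEquiv.finrank_map_eq g A

theorem map_eq_of_le {g : V ≃ₗ[F] V} (h : ∀ v ∈ A, g v ∈ A') (hd : finrank F A = finrank F A') :
    A.map (g : V →ₗ[F] V) = A' := by
  apply Submodule.eq_of_le_of_finrank_eq
  · rintro _ ⟨v, hv, rfl⟩
    exact h v hv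
  · rw [← hd]
    exact LinearEquiv.finrank_map_eq g A

/-- an element acting on `D` with prescribed determinant, trivial on `A` and `B` -/
theorem Dec.exists_det (h : Dec A B D) (hD : 0 < finrank F D) {c : F} (hc : c ≠ 0) :
    ∃ g : V ≃ₗ[F] V, LinearMap.det (g : V →ₗ[F] V) = c ∧ (∀ v ∈ A, g v = v) ∧ (∀ v ∈ B, g v = v) ∧ Inv g D := by
  obtain ⟨y, hy⟩ := H845.Bs.exists_det (F := F) hD hc
  refine ⟨glue h.compl.symm y 1, ?_, fun v hv => ?_, fun v hv => ?_, fun v hv => ?_⟩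
  · rw [det_glue, hy]
    have : LinearMap.det ((1 : ↥(A ⊔ B) ≃ₗ[F] ↥(A ⊔ B)) : ↥(A ⊔ B) →ₗ[F] ↥(A ⊔ B)) = 1 := LinearMap.det_id
    rw [this, mul_one]
  · exact glue_right h.compl.symm y 1 ⟨v, Submodule.mem_sup_left hv⟩
  · exact glue_right h.compl.symm y 1 ⟨v, Submodule.mem_sup_right hv⟩
  · rw [glue_left h.compl.symm y 1 ⟨v, hv⟩]
    exact (y _).2

/-- `SL(V)` is transitive on the decompositions -/
theorem Dec.exists_sl (h : Dec A B D) (h' : Dec A' B' D') (hA : finrank F A = finrank F A')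
    (hB : finrank F B = finrank F B') (hD : 0 < finrank F D) :
    ∃ g ∈ slV F V, A.map (g : V →ₗ[F] V) = A' ∧ B.map (g : V →ₗ[F] V) = B' ∧ D.map (g : V →ₗ[F] V) = D' := by
  have hDD : finrank F D = finrank F D' := by
    have e1 := Submodule.finrank_add_eq_of_isCompl h.compl
    have e2 := Submodule.finrank_add_eq_of_isCompl h'.compl
    have e3 := Submodule.finrank_sup_add_finrank_inf_eq A B
    have e4 := Submodule.finrank_sup_add_finrank_inf_eq A' B'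
    rw [disjoint_iff.1 h.disj, finrank_bot] at e3
    rw [disjoint_iff.1 h'.disj, finrank_bot] at e4
    omega
  let a : A ≃ₗ[F] A' := LinearEquiv.ofFinrankEq A A' hA
  let b : B ≃ₗ[F] B' := LinearEquiv.ofFinrankEq B B' hB
  let d : D ≃ₗ[F] D' := LinearEquiv.ofFinrankEq D D' hDD
  let T : V ≃ₗ[F] V := h.join.symm.trans ((a.prodCongr (b.prodCongr d)).trans h'.join)
  have hT : ∀ (u : A) (v : B) (w : D), T ((u : V) + (v + w)) = (a u : V) + (b v + d w) := by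
    intro u v w
    show h'.join ((a.prodCongr (b.prodCongr d)) (h.join.symm ((u : V) + (v + w)))) = _
    rw [← h.join_apply, LinearEquiv.symm_apply_apply]
    rfl
  have hTA : ∀ v ∈ A, T v ∈ A' := by
    intro v hv
    have h1 := hT ⟨v, hv⟩ 0 0
    simp only [ZeroMemClass.coe_zero, add_zero, map_zero] at h1
    rw [h1]
    exact (a _).2
  have hTB : ∀ v ∈ B, T v ∈ B' := by
    intro v hv
    have h1 := hT 0 ⟨v, hv⟩ 0
    simp only [ZeroMemClass.coe_zero, add_zero, zero_add, map_zero] at h1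
    rw [h1]
    exact (b _).2
  have hTD : ∀ v ∈ D, T v ∈ D' := by
    intro v hv
    have h1 := hT 0 0 ⟨v, hv⟩
    simp only [ZeroMemClass.coe_zero, zero_add, map_zero] at h1
    rw [h1]
    exact (d _).2
  have hd0 : LinearMap.det (T : V →ₗ[F] V) ≠ 0 := (LinearEquiv.isUnit_det' T).ne_zero
  obtain ⟨k, hk, kA, kB, kD⟩ := h'.exists_det (hDD ▸ hD) (inv_ne_zero hd0)
  refine ⟨k * T, ?_, ?_, ?_, ?_⟩
  · show LinearMap.det ((k : V →ₗ[F] V) ∘ₗ (T : V →ₗ[F] V)) = 1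
    rw [LinearMap.det_comp, hk, inv_mul_cancel₀ hd0]
  · refine map_eq_of_le (fun v hv => ?_) hA
    show k (T v) ∈ A'
    rw [kA _ (hTA v hv)]
    exact hTA v hv
  · refine map_eq_of_le (fun v hv => ?_) hB
    show k (T v) ∈ B'
    rw [kB _ (hTB v hv)]
    exact hTB v hv
  · refine map_eq_of_le (fun v hv => ?_) hDD
    show k (T v) ∈ D'
    exact kD _ (hTD v hv)

/-! ### the stabiliser -/

/-- the stabiliser of a decomposition in `SL(V)` -/
def stab (A B D : Submodule F V) : Subgroup (V ≃ₗ[F] V) where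
  carrier := {g | g ∈ slV F V ∧ Inv g A ∧ Inv g B ∧ Inv g D}
  mul_mem' := by
    rintro a b ⟨ha, ha1, ha2, ha3⟩ ⟨hb, hb1, hb2, hb3⟩
    exact ⟨(slV F V).mul_mem ha hb, fun v hv => ha1 _ (hb1 v hv), fun v hv => ha2 _ (hb2 v hv),
      fun v hv => ha3 _ (hb3 v hv)⟩
  one_mem' := ⟨(slV F V).one_mem, fun v hv => hv, fun v hv => hv, fun v hv => hv⟩
  inv_mem' := by
    rintro a ⟨ha, ha1, ha2, ha3⟩
    exact ⟨(slV F V).inv_mem ha, fun v hv => inv_symm_mem ha1 hv, fun v hv => inv_symm_mem ha2 hv,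
      fun v hv => inv_symm_mem ha3 hv⟩

/-- the restriction to `A` and `B` -/
noncomputable def rho (A B D : Submodule F V) : stab A B D →* (A ≃ₗ[F] A) × (B ≃ₗ[F] B) where
  toFun g := (res g.1 g.2.2.1, res g.1 g.2.2.2.1)
  map_one' := Prod.ext (LinearEquiv.ext fun v => Subtype.ext rfl) (LinearEquiv.ext fun v => Subtype.ext rfl)
  map_mul' a b := Prod.ext (LinearEquiv.ext fun v => Subtype.ext rfl) (LinearEquiv.ext fun v => Subtype.ext rfl)

theorem Dec.rho_surjective (h : Dec A B D) (hD : 0 < finrank F D) : Function.Surjective (rho A B D) := by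
  rintro ⟨x, y⟩
  have hx : LinearMap.det (x : A →ₗ[F] A) ≠ 0 := (LinearEquiv.isUnit_det' x).ne_zero
  have hy : LinearMap.det (y : B →ₗ[F] B) ≠ 0 := (LinearEquiv.isUnit_det' y).ne_zero
  obtain ⟨k, hk, kA, kB, kD⟩ := h.exists_det hD (inv_ne_zero (mul_ne_zero hx hy))
  let g₁ : V ≃ₗ[F] V := glue h.left x 1
  let g₂ : V ≃ₗ[F] V := glue h.right y 1
  have h1A : ∀ v : A, g₁ v = x v := fun v => glue_left h.left x 1 v
  have h1B : ∀ v ∈ B, g₁ v = v := fun v hv => glue_right h.left x 1 ⟨v, Submodule.mem_sup_left hv⟩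
  have h1D : ∀ v ∈ D, g₁ v = v := fun v hv => glue_right h.left x 1 ⟨v, Submodule.mem_sup_right hv⟩
  have h2B : ∀ v : B, g₂ v = y v := fun v => glue_left h.right y 1 v
  have h2A : ∀ v ∈ A, g₂ v = v := fun v hv => glue_right h.right y 1 ⟨v, Submodule.mem_sup_left hv⟩
  have h2D : ∀ v ∈ D, g₂ v = v := fun v hv => glue_right h.right y 1 ⟨v, Submodule.mem_sup_right hv⟩
  have hdet1 : LinearMap.det (g₁ : V →ₗ[F] V) = LinearMap.det (x : A →ₗ[F] A) := by
    have : LinearMap.det ((1 : ↥(B ⊔ D) ≃ₗ[F] ↥(B ⊔ D)) : ↥(B ⊔ D) →ₗ[F] ↥(B ⊔ D)) = 1 := LinearMap.det_id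
    rw [det_glue, this, mul_one]
  have hdet2 : LinearMap.det (g₂ : V →ₗ[F] V) = LinearMap.det (y : B →ₗ[F] B) := by
    have : LinearMap.det ((1 : ↥(A ⊔ D) ≃ₗ[F] ↥(A ⊔ D)) : ↥(A ⊔ D) →ₗ[F] ↥(A ⊔ D)) = 1 := LinearMap.det_id
    rw [det_glue, this, mul_one]
  have eA : ∀ v : A, (g₁ * (g₂ * k)) v = x v := by
    intro v
    show g₁ (g₂ (k v)) = x v
    rw [kA v v.2, h2A v v.2, h1A]
  have eB : ∀ v : B, (g₁ * (g₂ * k)) v = y v := by
    intro v
    show g₁ (g₂ (k v)) = y v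
    rw [kB v v.2, h2B, h1B _ (y v).2]
  refine ⟨⟨g₁ * (g₂ * k), ?_, fun v hv => ?_, fun v hv => ?_, fun v hv => ?_⟩, ?_⟩
  · show LinearMap.det ((g₁ : V →ₗ[F] V) ∘ₗ ((g₂ : V →ₗ[F] V) ∘ₗ (k : V →ₗ[F] V))) = 1
    rw [LinearMap.det_comp, LinearMap.det_comp, hdet1, hdet2, hk, ← mul_assoc, mul_inv_cancel₀ (mul_ne_zero hx hy)]
  · rw [eA ⟨v, hv⟩]
    exact (x _).2
  · rw [eB ⟨v, hv⟩]
    exact (y _).2
  · show g₁ (g₂ (k v)) ∈ D
    rw [h2D _ (kD v hv), h1D _ (kD v hv)]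
    exact kD v hv
  · exact Prod.ext (LinearEquiv.ext fun v => Subtype.ext (eA v)) (LinearEquiv.ext fun v => Subtype.ext (eB v))

end

/-- the proportion of the irreducible elements of the stabiliser -/
theorem Dec.card_stab {F V : Type} [Field F] [Finite F] [AddCommGroup V] [Module F V] [Module.Finite F V]
    {A B D : Submodule F V} (h : Dec A B D) (hD : 0 < finrank F D) (hA : 1 ≤ finrank F A) (hB : 1 ≤ finrank F B) :
    finrank F A * finrank F B * Nat.card {g : stab A B D // Irr (g : V ≃ₗ[F] V) A ∧ Irr (g : V ≃ₗ[F] V) B} ≤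
      Nat.card (stab A B D) := by
  have hVfin : Finite V := Module.finite_of_finite F
  have hGfin : Finite (V ≃ₗ[F] V) := Finite.of_injective (fun u : V ≃ₗ[F] V => (u : V → V)) DFunLike.coe_injective
  have h1 := card_preimage (rho A B D) (h.rho_surjective hD) {p | Irr p.1 ⊤ ∧ Irr p.2 ⊤}
  have h2 := card_preimage (rho A B D) (h.rho_surjective hD) Set.univ
  have e1 : Nat.card {g : stab A B D // Irr (g : V ≃ₗ[F] V) A ∧ Irr (g : V ≃ₗ[F] V) B} =
      Nat.card {m : stab A B D // rho A B D m ∈ {p : (A ≃ₗ[F] A) × (B ≃ₗ[F] B) | Irr p.1 ⊤ ∧ Irr p.2 ⊤}} :=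
    Nat.card_congr (Equiv.subtypeEquivRight fun g => and_congr (irr_res g.2.2.1).symm (irr_res g.2.2.2.1).symm)
  have e2 : Nat.card (stab A B D) =
      Nat.card {m : stab A B D // rho A B D m ∈ (Set.univ : Set ((A ≃ₗ[F] A) × (B ≃ₗ[F] B)))} :=
    Nat.card_congr (Equiv.subtypeUnivEquiv fun _ => Set.mem_univ _).symm
  have e3 : Nat.card ({p | Irr p.1 ⊤ ∧ Irr p.2 ⊤} : Set ((A ≃ₗ[F] A) × (B ≃ₗ[F] B))) =
      Nat.card {x : A ≃ₗ[F] A // Irr x ⊤} * Nat.card {x : B ≃ₗ[F] B // Irr x ⊤} := by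
    rw [← Nat.card_prod]
    exact Nat.card_congr
      { toFun := fun p => (⟨p.1.1, p.2.1⟩, ⟨p.1.2, p.2.2⟩)
        invFun := fun p => ⟨(p.1.1, p.2.1), p.1.2, p.2.2⟩
        left_inv := fun _ => rfl
        right_inv := fun _ => rfl }
  rw [e1, h1, e3, e2, h2, Nat.card_univ, Nat.card_prod]
  have i1 := card_irr (F := F) (X := A) hA
  have i2 := card_irr (F := F) (X := B) hB
  calc _ = Nat.card (rho A B D).ker * ((finrank F A * Nat.card {x : A ≃ₗ[F] A // Irr x ⊤}) *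
        (finrank F B * Nat.card {x : B ≃ₗ[F] B // Irr x ⊤})) := by ring
    _ ≤ _ := Nat.mul_le_mul_left _ (Nat.mul_le_mul i1 i2)

/-! ### the position of the blocks -/

section

variable {F V : Type*} [Field F] [AddCommGroup V] [Module F V] [FiniteDimensional F V]

theorem inv_zpow {y : V ≃ₗ[F] V} {W : Submodule F V} (h : Inv y W) {z : V ≃ₗ[F] V} (hz : z ∈ Subgroup.zpowers y) :
    Inv z W := by
  let S : Subgroup (V ≃ₗ[F] V) :=
    { carrier := {g | Inv g W}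
      mul_mem' := fun {a b} ha hb v hv => ha _ (hb v hv)
      one_mem' := fun v hv => hv
      inv_mem' := fun {a} ha v hv => inv_symm_mem ha hv }
  have h1 : Subgroup.zpowers y ≤ S := (Subgroup.zpowers_le).2 h
  exact h1 hz

theorem le_of_disj {e : ℕ} {y z : V ≃ₗ[F] V} {E C W : Submodule F V} (h : StL e y E C z) (hW : Inv y W)
    (hd : E ⊓ W = ⊥) : W ≤ C := by
  intro v hv
  have hzE := inv_zpow h.inv h.mem
  have hzW := inv_zpow hW h.mem
  have hv' : v ∈ E ⊔ C := by rw [h.compl.sup_eq_top]; trivial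
  obtain ⟨a, ha, c, hc, rfl⟩ := Submodule.mem_sup.1 hv'
  have h1 : z (a + c) - (a + c) = z a - a := by
    rw [map_add, h.fix c hc]
    abel
  have h2 : z a - a ∈ E ⊓ W := by
    refine ⟨sub_mem (hzE a ha) ha, ?_⟩
    rw [← h1]
    exact sub_mem (hzW _ hv) hv
  rw [hd, Submodule.mem_bot, sub_eq_zero] at h2
  rw [h.fpf a ha h2, zero_add]
  exact hc

theorem pos {e d : ℕ} {y z z' : V ≃ₗ[F] V} {E C E' C' : Submodule F V} (hlt : d < e) (h : StL e y E C z)
    (h' : StL d y E' C' z') : Dec E E' (C ⊓ C') := by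
  have hdis : E ⊓ E' = ⊥ := by
    have h0 : Inv y (E ⊓ E') := fun v hv => ⟨h.inv v hv.1, h'.inv v hv.2⟩
    rcases h.irr (E ⊓ E') inf_le_left (inv_zpow h0 h.mem) with h1 | h1
    · exact h1
    · exfalso
      have h2 : E ≤ E' := by rw [← h1]; exact inf_le_right
      have h3 := Submodule.finrank_mono h2
      rw [h.dim, h'.dim] at h3
      omega
  have h1 : E' ≤ C := le_of_disj h h'.inv hdis
  have h2 : E ≤ C' := le_of_disj h' h.inv (by rw [inf_comm]; exact hdis)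
  have hEC := Submodule.disjoint_def.1 h.compl.disjoint
  have hEC' := Submodule.disjoint_def.1 h'.compl.disjoint
  refine ⟨disjoint_iff.2 hdis, ?_, ?_⟩
  · rw [Submodule.disjoint_def]
    rintro v hv ⟨hv1, hv2⟩
    obtain ⟨a, ha, b, hb, rfl⟩ := Submodule.mem_sup.1 hv
    have ha0 : a = 0 := hEC a ha (by
      have h3 : a = a + b - b := by abel
      rw [h3]
      exact sub_mem hv1 (h1 hb))
    have hb0 : b = 0 := hEC' b hb (by
      have h3 : b = a + b - a := by abel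
      rw [h3]
      exact sub_mem hv2 (h2 ha))
    rw [ha0, hb0, add_zero]
  · rw [codisjoint_iff, eq_top_iff]
    intro v _
    have hv : v ∈ E ⊔ C := by rw [h.compl.sup_eq_top]; trivial
    obtain ⟨a, ha, c, hc, rfl⟩ := Submodule.mem_sup.1 hv
    have hc' : c ∈ E' ⊔ C' := by rw [h'.compl.sup_eq_top]; trivial
    obtain ⟨b, hb, c', hc'', rfl⟩ := Submodule.mem_sup.1 hc'
    rw [← add_assoc]
    refine Submodule.add_mem_sup (Submodule.add_mem_sup ha hb) ⟨?_, hc''⟩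
    have h3 : c' = b + c' - b := by abel
    rw [h3]
    exact sub_mem hc (h1 hb)

theorem irr_of_stl {e : ℕ} {y z : V ≃ₗ[F] V} {E C : Submodule F V} (he : 0 < e) (h : StL e y E C z) : Irr y E :=
  ⟨h.inv, fun h0 => by
    have h1 := h.dim
    rw [h0, finrank_bot] at h1
    omega, fun W hW hi => h.irr W hW (inv_zpow hi h.mem)⟩

end

/-! ### the first moment -/

theorem um2 : UM2 := by
  intro F V _ _ _ _ _ e d hn hd hlt E₀ E₀' C₀ hE hE' hdis hcompl Bad
  have hVfin : Finite V := Module.finite_of_finite F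
  have hGfin : Finite (V ≃ₗ[F] V) := Finite.of_injective (fun u : V ≃ₗ[F] V => (u : V → V)) DFunLike.coe_injective
  have hdec : Dec E₀ E₀' C₀ := ⟨hdis, hcompl⟩
  have hC : 0 < finrank F C₀ := by
    have e1 := Submodule.finrank_add_eq_of_isCompl hcompl
    have e3 := Submodule.finrank_sup_add_finrank_inf_eq E₀ E₀'
    rw [disjoint_iff.1 hdis, finrank_bot] at e3
    omega
  obtain ⟨P, hP⟩ : ∃ P : (V ≃ₗ[F] V) → Prop, P = fun y => ∃ E C E' C' z z', StL e y E C z ∧ StL d y E' C' z' ∧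
      Bad E E' (C ⊓ C') := ⟨_, rfl⟩
  obtain ⟨R, hR⟩ : ∃ R : (V ≃ₗ[F] V) → Prop, R = fun g : V ≃ₗ[F] V => Bad (E₀.map (g : V →ₗ[F] V)) (E₀'.map (g : V →ₗ[F] V))
      (C₀.map (g : V →ₗ[F] V)) := ⟨_, rfl⟩
  rw [← hP, ← hR]
  -- the position of the blocks
  have key : ∀ y : {y : V ≃ₗ[F] V // y ∈ slV F V ∧ P y}, ∃ g : V ≃ₗ[F] V, g ∈ slV F V ∧ R g ∧
      Irr (y : V ≃ₗ[F] V) (E₀.map (g : V →ₗ[F] V)) ∧ Irr (y : V ≃ₗ[F] V) (E₀'.map (g : V →ₗ[F] V)) ∧
      Inv (y : V ≃ₗ[F] V) (C₀.map (g : V →ₗ[F] V)) := by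
    rintro ⟨y, hy, hPy⟩
    rw [hP] at hPy
    obtain ⟨E, C, E', C', z, z', h, h', hb⟩ := hPy
    obtain ⟨g, hg, g1, g2, g3⟩ := hdec.exists_sl (pos hlt h h') (hE.trans h.dim.symm) (hE'.trans h'.dim.symm) hC
    refine ⟨g, hg, ?_, ?_, ?_, ?_⟩
    · rw [hR]
      show Bad _ _ _
      rw [g1, g2, g3]
      exact hb
    · rw [g1]; exact irr_of_stl (by omega) h
    · rw [g2]; exact irr_of_stl (by omega) h'
    · rw [g3]; exact fun v hv => ⟨h.inv' v hv.1, h'.inv' v hv.2⟩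
  choose g hg1 hg2 hg3 hg4 hg5 using key
  have hmap : ∀ (W : Submodule F V) (a : V ≃ₗ[F] V) (s : V ≃ₗ[F] V), Inv s W →
      W.map ((a * s : V ≃ₗ[F] V) : V →ₗ[F] V) = W.map (a : V →ₗ[F] V) := by
    intro W a s hs
    have h1 : ((a * s : V ≃ₗ[F] V) : V →ₗ[F] V) = (a : V →ₗ[F] V) ∘ₗ (s : V →ₗ[F] V) := rfl
    rw [h1, Submodule.map_comp, map_eq_of_inv hs]
  have hback : ∀ (W : Submodule F V) (a : V ≃ₗ[F] V), (W.map (a : V →ₗ[F] V)).map ((a⁻¹ : V ≃ₗ[F] V) : V →ₗ[F] V) = W := by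
    intro W a
    rw [← Submodule.map_comp]
    have h1 : ((a⁻¹ : V ≃ₗ[F] V) : V →ₗ[F] V) ∘ₗ (a : V →ₗ[F] V) = LinearMap.id :=
      LinearMap.ext fun v => a.symm_apply_apply v
    rw [h1, Submodule.map_id]
  -- the injection
  have hinj : cnt (slV F V) P * Nat.card (stab E₀ E₀' C₀) ≤ cnt (slV F V) R *
      Nat.card {s : stab E₀ E₀' C₀ // Irr (s : V ≃ₗ[F] V) E₀ ∧ Irr (s : V ≃ₗ[F] V) E₀'} := by
    unfold cnt
    rw [← Nat.card_prod, ← Nat.card_prod]
    have hA : ∀ p : {y : V ≃ₗ[F] V // y ∈ slV F V ∧ P y} × stab E₀ E₀' C₀,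
        (g p.1 * (p.2 : V ≃ₗ[F] V)) ∈ slV F V ∧ R (g p.1 * (p.2 : V ≃ₗ[F] V)) := by
      rintro ⟨y, s, hs, s1, s2, s3⟩
      refine ⟨(slV F V).mul_mem (hg1 y) hs, ?_⟩
      have h1 := hg2 y
      rw [hR] at h1 ⊢
      show Bad _ _ _
      rw [hmap _ _ _ s1, hmap _ _ _ s2, hmap _ _ _ s3]
      exact h1
    have hBi : ∀ p : {y : V ≃ₗ[F] V // y ∈ slV F V ∧ P y} × stab E₀ E₀' C₀,
        Irr ((g p.1 * (p.2 : V ≃ₗ[F] V))⁻¹ * (p.1 : V ≃ₗ[F] V) * (g p.1 * (p.2 : V ≃ₗ[F] V))) E₀ ∧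
        Irr ((g p.1 * (p.2 : V ≃ₗ[F] V))⁻¹ * (p.1 : V ≃ₗ[F] V) * (g p.1 * (p.2 : V ≃ₗ[F] V))) E₀' ∧
        Inv ((g p.1 * (p.2 : V ≃ₗ[F] V))⁻¹ * (p.1 : V ≃ₗ[F] V) * (g p.1 * (p.2 : V ≃ₗ[F] V))) C₀ := by
      rintro ⟨y, s, hs, s1, s2, s3⟩
      show Irr ((g y * s)⁻¹ * (y : V ≃ₗ[F] V) * (g y * s)) E₀ ∧ Irr ((g y * s)⁻¹ * (y : V ≃ₗ[F] V) * (g y * s)) E₀' ∧
        Inv ((g y * s)⁻¹ * (y : V ≃ₗ[F] V) * (g y * s)) C₀
      have t1 : Irr (y : V ≃ₗ[F] V) (E₀.map ((g y * s : V ≃ₗ[F] V) : V →ₗ[F] V)) := by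
        rw [hmap _ _ _ s1]; exact hg3 y
      have t2 : Irr (y : V ≃ₗ[F] V) (E₀'.map ((g y * s : V ≃ₗ[F] V) : V →ₗ[F] V)) := by
        rw [hmap _ _ _ s2]; exact hg4 y
      have t3 : Inv (y : V ≃ₗ[F] V) (C₀.map ((g y * s : V ≃ₗ[F] V) : V →ₗ[F] V)) := by
        rw [hmap _ _ _ s3]; exact hg5 y
      have r1 := irr_conj (g := (g y * s)⁻¹) t1
      have r2 := irr_conj (g := (g y * s)⁻¹) t2
      have r3 := inv_conj (g := (g y * s)⁻¹) t3
      rw [hback, inv_inv] at r1 r2 r3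
      exact ⟨r1, r2, r3⟩
    have hmem : ∀ p : {y : V ≃ₗ[F] V // y ∈ slV F V ∧ P y} × stab E₀ E₀' C₀,
        (g p.1 * (p.2 : V ≃ₗ[F] V))⁻¹ * (p.1 : V ≃ₗ[F] V) * (g p.1 * (p.2 : V ≃ₗ[F] V)) ∈ stab E₀ E₀' C₀ := by
      intro p
      refine ⟨(slV F V).mul_mem ((slV F V).mul_mem ((slV F V).inv_mem (hA p).1) p.1.2.1) (hA p).1, (hBi p).1.inv,
        (hBi p).2.1.inv, (hBi p).2.2⟩
    refine Nat.card_le_card_of_injective (fun p => (⟨g p.1 * (p.2 : V ≃ₗ[F] V), hA p⟩,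
      ⟨⟨_, hmem p⟩, (hBi p).1, (hBi p).2.1⟩)) ?_
    rintro ⟨y, s⟩ ⟨y', s'⟩ hh
    have h1 : g y * (s : V ≃ₗ[F] V) = g y' * (s' : V ≃ₗ[F] V) := congrArg (fun q => (q.1.1 : V ≃ₗ[F] V)) hh
    have h2 : (g y * (s : V ≃ₗ[F] V))⁻¹ * (y : V ≃ₗ[F] V) * (g y * (s : V ≃ₗ[F] V)) =
        (g y' * (s' : V ≃ₗ[F] V))⁻¹ * (y' : V ≃ₗ[F] V) * (g y' * (s' : V ≃ₗ[F] V)) :=
      congrArg (fun q => (q.2.1.1 : V ≃ₗ[F] V)) hh
    rw [h1] at h2
    have h3 : (y : V ≃ₗ[F] V) = y' := mul_left_cancel (mul_right_cancel h2)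
    have h4 : y = y' := Subtype.ext h3
    subst h4
    have h5 : s = s' := Subtype.ext (mul_left_cancel h1)
    rw [h5]
  have hst := hdec.card_stab hC (by omega) (by omega)
  rw [hE, hE'] at hst
  rcases Nat.eq_zero_or_pos (Nat.card {s : stab E₀ E₀' C₀ // Irr (s : V ≃ₗ[F] V) E₀ ∧ Irr (s : V ≃ₗ[F] V) E₀'}) with h0 | h0
  · rw [h0, mul_zero, Nat.le_zero, Nat.mul_eq_zero] at hinj
    rcases hinj with h1 | h1
    · rw [h1, zero_mul]; exact Nat.zero_le _
    · exact absurd h1 Nat.card_pos.ne'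
  · refine Nat.le_of_mul_le_mul_right ?_ h0
    calc _ = cnt (slV F V) P * (e * d * Nat.card {s : stab E₀ E₀' C₀ // Irr (s : V ≃ₗ[F] V) E₀ ∧
          Irr (s : V ≃ₗ[F] V) E₀'}) := by ring
      _ ≤ cnt (slV F V) P * Nat.card (stab E₀ E₀' C₀) := Nat.mul_le_mul_left _ hst
      _ ≤ _ := hinj

end Cfsg.Agent.H994.Ux
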