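import Cfsg.Agent.H994.Ux.Lift
import Cfsg.Agent.H124.UX.LftDefs

/-!
# UX (S5716), UF1: lifts exist (helper994, interface helper124)
-/

set_option autoImplicit false

namespace Cfsg.Agent.H994.Ux.Lift

open Module QuadraticMap Cfsg.Agent.LieClassical.OrthCore Cfsg.Agent.H847.Bs

theorem exLft : Cfsg.Agent.H124.UX.ExLft := by
  intro F V _ _ _ _ _ Φ H hs h2 hH
  obtain ⟨Q₀, hQ⟩ := exists_form hs h2
  refine ⟨V × F, inferInstance, inferInstance, inferInstance, Qt Q₀, LinearMap.fst F V F, Lf h2 Q₀ H, (0, 1), ?_⟩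
  refine
    { surj := fun v => ⟨(v, 0), rfl⟩
      pol := fun x y => by rw [polar_Qt h2, hQ]; rfl
      kr := rfl
      Qr := by rw [Qt_apply]; simp
      ker := fun x hx => ⟨x.2, Prod.ext (by
        have h1 : x.1 = 0 := hx
        rw [h1]
        simp) (by simp)⟩
      mem := fun g => ?_
      ex := fun h hh => ?_ }
  · constructor
    · intro hg
      obtain ⟨h, hh, rfl⟩ := (mem_Lf h2).1 hg
      exact ⟨lft_mem h2 h, h, hh, fun x => rfl⟩
    · rintro ⟨hg, h, hh, hgh⟩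
      exact mem_Lf_of h2 hg hh hgh
  · have h1 : h ∈ SpQ Q₀ := (mem_Iso_iff hs hQ).1 (hH hh)
    exact ⟨lft h2 ⟨h, h1⟩, (lft_mem_Lf h2).2 hh, fun x => rfl⟩

end Cfsg.Agent.H994.Ux.Lift
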